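import Mathlib

set_option autoImplicit false

/-!
Similarity normal forms of non-scalar `3 × 3` matrices of determinant one.
-/

namespace Cfsg.Agent.Lib.SL3Products

open Matrix

variable {F : Type*} [Field F]

/-- similarity -/
def Sim (M N : Matrix (Fin 3) (Fin 3) F) : Prop :=
  ∃ P : Matrix (Fin 3) (Fin 3) F, P.det ≠ 0 ∧ M * P = P * N

theorem Sim.symm {M N : Matrix (Fin 3) (Fin 3) F} (h : Sim M N) : Sim N M := by
  obtain ⟨P, hP, e⟩ := h
  have hu : IsUnit P.det := Ne.isUnit hP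
  refine ⟨P⁻¹, (Matrix.isUnit_nonsing_inv_det P hu).ne_zero, ?_⟩
  calc N * P⁻¹ = P⁻¹ * P * N * P⁻¹ := by rw [Matrix.nonsing_inv_mul P hu, Matrix.one_mul]
    _ = P⁻¹ * (P * N) * P⁻¹ := by rw [Matrix.mul_assoc P⁻¹ P N]
    _ = P⁻¹ * (M * P) * P⁻¹ := by rw [e]
    _ = P⁻¹ * M * (P * P⁻¹) := by simp only [Matrix.mul_assoc]
    _ = P⁻¹ * M := by rw [Matrix.mul_nonsing_inv P hu, Matrix.mul_one]

theorem Sim.trans {M N L : Matrix (Fin 3) (Fin 3) F} (h : Sim M N) (h' : Sim N L) : Sim M L := by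
  obtain ⟨P, hP, e⟩ := h
  obtain ⟨Q, hQ, e'⟩ := h'
  refine ⟨P * Q, by rw [Matrix.det_mul]; exact mul_ne_zero hP hQ, ?_⟩
  rw [← Matrix.mul_assoc, e, Matrix.mul_assoc, e', Matrix.mul_assoc]

theorem Sim.det_eq {M N : Matrix (Fin 3) (Fin 3) F} (h : Sim M N) : M.det = N.det := by
  obtain ⟨P, hP, e⟩ := h
  have := congrArg Matrix.det e
  rw [Matrix.det_mul, Matrix.det_mul, mul_comm P.det] at this
  exact mul_right_cancel₀ hP this

/-- a quadratic relation is a similarity invariant -/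
theorem Sim.quadratic {M N : Matrix (Fin 3) (Fin 3) F} (h : Sim M N) {s t : F}
    (hq : M * M = s • M - t • 1) : N * N = s • N - t • 1 := by
  obtain ⟨P, hP, e⟩ := h
  have hu : IsUnit P.det := Ne.isUnit hP
  have hN : N = P⁻¹ * M * P := by
    rw [Matrix.mul_assoc, e, ← Matrix.mul_assoc, Matrix.nonsing_inv_mul P hu, Matrix.one_mul]
  rw [hN]
  calc P⁻¹ * M * P * (P⁻¹ * M * P) = P⁻¹ * M * (P * P⁻¹) * M * P := by simp only [Matrix.mul_assoc]
    _ = P⁻¹ * (M * M) * P := by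
        rw [Matrix.mul_nonsing_inv P hu, Matrix.mul_one]; simp only [Matrix.mul_assoc]
    _ = _ := by
        rw [hq]
        simp [Matrix.mul_sub, Matrix.sub_mul, Matrix.mul_assoc, Matrix.nonsing_inv_mul P hu]

/-- companion matrix of `x³ - a x² - b x - 1` -/
def comp3 (a b : F) : Matrix (Fin 3) (Fin 3) F := !![0, 0, 1; 1, 0, b; 0, 1, a]

/-- the normal form with quadratic minimal polynomial -/
def quad3 (c : F) : Matrix (Fin 3) (Fin 3) F := !![0, -c⁻¹, 0; 1, c + (c⁻¹) ^ 2, 0; 0, 0, c]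

theorem comp3_not_quadratic (a b s t : F) : comp3 a b * comp3 a b ≠ s • comp3 a b - t • 1 := by
  intro h
  have := congrFun (congrFun h 2) 0
  simp [comp3, Matrix.mul_apply, Fin.sum_univ_three] at this

theorem quad3_quadratic_eq {c s t : F}
    (h : quad3 c * quad3 c = s • quad3 c - t • 1) : t = c⁻¹ := by
  have := congrFun (congrFun h 0) 0
  simp [quad3, Matrix.mul_apply, Fin.sum_univ_three] at this
  exact this.symm

theorem sim_comp3_of_cyclic {M : Matrix (Fin 3) (Fin 3) F} (hdet : M.det = 1) (v : Fin 3 → F)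
    (h : (Matrix.of fun i j => (![v, M *ᵥ v, M *ᵥ (M *ᵥ v)] j) i).det ≠ 0) :
    ∃ a b, Sim M (comp3 a b) := by
  set P := Matrix.of fun i j => (![v, M *ᵥ v, M *ᵥ (M *ᵥ v)] j) i with hP
  have hu : IsUnit P.det := Ne.isUnit h
  set k : Fin 3 → F := P⁻¹ *ᵥ (M *ᵥ (M *ᵥ (M *ᵥ v))) with hk
  have hk' : P *ᵥ k = M *ᵥ (M *ᵥ (M *ᵥ v)) := by
    rw [hk, Matrix.mulVec_mulVec, Matrix.mul_nonsing_inv P hu, Matrix.one_mulVec]
  have e : M * P = P * !![0, 0, k 0; 1, 0, k 1; 0, 1, k 2] := by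
    ext i j
    rw [Matrix.mul_apply, Matrix.mul_apply]
    fin_cases j
    · simp [hP, Fin.sum_univ_three, Matrix.mulVec, dotProduct]
    · simp [hP, Fin.sum_univ_three, Matrix.mulVec, dotProduct, Matrix.mul_apply]
      ring
    · have := congrFun hk' i
      simp [hP, Matrix.mulVec, dotProduct, Fin.sum_univ_three, Matrix.mul_apply] at this ⊢
      linear_combination -this
  have hk0 : k 0 = 1 := by
    have := congrArg Matrix.det e
    rw [Matrix.det_mul, Matrix.det_mul, hdet, one_mul] at this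
    have h1 : (!![0, 0, k 0; 1, 0, k 1; 0, 1, k 2] : Matrix (Fin 3) (Fin 3) F).det = k 0 := by
      simp [Matrix.det_fin_three]
    rw [h1] at this
    exact mul_left_cancel₀ h (by rw [mul_one]; exact this.symm)
  exact ⟨k 2, k 1, P, h, by rw [e, hk0]; rfl⟩

theorem exists_noneigen {M : Matrix (Fin 3) (Fin 3) F}
    (hns : ∀ c : F, M ≠ c • (1 : Matrix (Fin 3) (Fin 3) F)) :
    ∃ v w : Fin 3 → F, (Matrix.of fun i j => (![v, M *ᵥ v, w] j) i).det ≠ 0 := by
  by_contra h
  simp only [not_exists, ne_eq, not_not] at h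
  have a1 := h ![1, 0, 0] ![0, 0, 1]
  have a2 := h ![1, 0, 0] ![0, 1, 0]
  have b1 := h ![0, 1, 0] ![0, 0, 1]
  have b2 := h ![0, 1, 0] ![1, 0, 0]
  have c1 := h ![0, 0, 1] ![1, 0, 0]
  have c2 := h ![0, 0, 1] ![0, 1, 0]
  have d1 := h ![1, 1, 0] ![0, 0, 1]
  have d2 := h ![1, 0, 1] ![0, 1, 0]
  simp [Matrix.det_fin_three, Matrix.mulVec, dotProduct, Fin.sum_univ_three] at a1 a2 b1 b2 c1 c2 d1 d2
  apply hns (M 0 0)
  rw [a1, b1] at d1
  rw [a2, c2] at d2
  have d3 : M 2 2 = M 0 0 := by linear_combination -d2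
  ext i j
  fin_cases i <;> fin_cases j <;> simp_all [sub_eq_zero]

theorem canonical_upper {A B C p r c : F} (hdet : (!![0, A, p; 1, B, r; 0, C, c] :
      Matrix (Fin 3) (Fin 3) F).det = 1) :
    (∃ a b, Sim !![0, A, p; 1, B, r; 0, C, c] (comp3 a b)) ∨
      ∃ d, d ≠ 0 ∧ Sim !![0, A, p; 1, B, r; 0, C, c] (quad3 d) := by
  by_cases hC : C = 0
  swap
  · left
    refine sim_comp3_of_cyclic hdet ![1, 0, 0] ?_
    simpa [Matrix.det_fin_three, Matrix.mulVec, dotProduct, Fin.sum_univ_three] using hC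
  subst hC
  have hAc : -(A * c) = 1 := by simpa [Matrix.det_fin_three] using hdet
  have key : ∀ x y : F, (Matrix.of fun i j => (![![x, y, 1], !![0, A, p; 1, B, r; 0, 0, c] *ᵥ ![x, y, 1],
      !![0, A, p; 1, B, r; 0, 0, c] *ᵥ (!![0, A, p; 1, B, r; 0, 0, c] *ᵥ ![x, y, 1])] j) i).det =
      (p - c * x + A * y) ^ 2 + B * (p - c * x + A * y) * (r + x + (B - c) * y) -
        A * (r + x + (B - c) * y) ^ 2 := by
    intro x y
    simp [Matrix.det_fin_three, Matrix.mulVec, dotProduct, Fin.sum_univ_three]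
    ring
  by_cases hδ : c ^ 2 - B * c - A = 0
  · have hA : A = c ^ 2 - B * c := by linear_combination -hδ
    by_cases hL : p + c * r = 0
    · right
      have hc : c ≠ 0 := by
        rintro rfl
        simp at hAc
      refine ⟨c, hc, !![1, 0, -r; 0, 1, 0; 0, 0, 1], by simp [Matrix.det_fin_three], ?_⟩
      have hA' : A = -c⁻¹ := by
        field_simp
        linear_combination -hAc
      have hB : B = c + c⁻¹ ^ 2 := by
        field_simp
        linear_combination -(c * hδ) + hAc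
      have hp : p = -(c * r) := by linear_combination hL
      subst hp
      ext i j
      fin_cases i <;> fin_cases j <;> simp [quad3, Matrix.mul_apply, Fin.sum_univ_three, hA', hB] <;> ring
    · left
      obtain ⟨k, hk⟩ : ∃ k : F, p + (B - c) * r + k * (B - 2 * c) ≠ 0 := by
        by_contra hne
        simp only [not_exists, ne_eq, not_not] at hne
        exact hL (by linear_combination hne 0 - r * (hne 1 - hne 0))
      refine sim_comp3_of_cyclic hdet ![k, 0, 1] ?_
      rw [key, hA]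
      have : (p - c * k + (c ^ 2 - B * c) * 0) ^ 2 +
          B * (p - c * k + (c ^ 2 - B * c) * 0) * (r + k + (B - c) * 0) -
          (c ^ 2 - B * c) * (r + k + (B - c) * 0) ^ 2 =
          (p + c * r) * (p + (B - c) * r + k * (B - 2 * c)) := by ring
      rw [this]
      exact mul_ne_zero hL hk
  · left
    refine sim_comp3_of_cyclic hdet
      ![-r - (B - c) * ((1 - p - c * r) / (c * B - c ^ 2 + A)),
        (1 - p - c * r) / (c * B - c ^ 2 + A), 1] ?_
    rw [key]
    have hden : c * B - c ^ 2 + A ≠ 0 := fun h0 => hδ (by linear_combination -h0)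
    have h1 : p - c * (-r - (B - c) * ((1 - p - c * r) / (c * B - c ^ 2 + A))) +
        A * ((1 - p - c * r) / (c * B - c ^ 2 + A)) = 1 := by
      have := div_mul_cancel₀ (1 - p - c * r) hden
      linear_combination this
    rw [h1]
    have h2 : r + (-r - (B - c) * ((1 - p - c * r) / (c * B - c ^ 2 + A))) +
        (B - c) * ((1 - p - c * r) / (c * B - c ^ 2 + A)) = 0 := by ring
    rw [h2]
    simp

theorem canonical {M : Matrix (Fin 3) (Fin 3) F} (hdet : M.det = 1)
    (hns : ∀ c : F, M ≠ c • (1 : Matrix (Fin 3) (Fin 3) F)) :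
    (∃ a b, Sim M (comp3 a b)) ∨ ∃ c, c ≠ 0 ∧ Sim M (quad3 c) := by
  obtain ⟨v, w, h⟩ := exists_noneigen hns
  set P := Matrix.of fun i j => (![v, M *ᵥ v, w] j) i with hP
  have hu : IsUnit P.det := Ne.isUnit h
  set s : Fin 3 → F := P⁻¹ *ᵥ (M *ᵥ (M *ᵥ v)) with hs
  set t : Fin 3 → F := P⁻¹ *ᵥ (M *ᵥ w) with ht
  have hs' : P *ᵥ s = M *ᵥ (M *ᵥ v) := by
    rw [hs, Matrix.mulVec_mulVec, Matrix.mul_nonsing_inv P hu, Matrix.one_mulVec]
  have ht' : P *ᵥ t = M *ᵥ w := by
    rw [ht, Matrix.mulVec_mulVec, Matrix.mul_nonsing_inv P hu, Matrix.one_mulVec]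
  have hsim : Sim M !![0, s 0, t 0; 1, s 1, t 1; 0, s 2, t 2] := by
    refine ⟨P, h, ?_⟩
    ext i j
    rw [Matrix.mul_apply, Matrix.mul_apply]
    fin_cases j
    · simp [hP, Fin.sum_univ_three, Matrix.mulVec, dotProduct]
    · have := congrFun hs' i
      simp [hP, Matrix.mulVec, dotProduct, Fin.sum_univ_three] at this ⊢
      linear_combination -this
    · have := congrFun ht' i
      simp [hP, Matrix.mulVec, dotProduct, Fin.sum_univ_three] at this ⊢
      linear_combination -this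
  rcases canonical_upper (hsim.det_eq.symm.trans hdet) with ⟨a, b, h'⟩ | ⟨c, hc, h'⟩
  · exact Or.inl ⟨a, b, hsim.trans h'⟩
  · exact Or.inr ⟨c, hc, hsim.trans h'⟩

end Cfsg.Agent.Lib.SL3Products
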