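import Mathlib
import Cfsg.Agent.Lib.SL3Products.Canonical

set_option autoImplicit false

/-!
Non-scalar elements of `SL(3, F)` as products of two conjugates of a split regular element.
-/

namespace Cfsg.Agent.Lib.SL3Products

open Matrix

variable {F : Type*} [Field F]

/-- `M` is a product of two matrices similar to `D` -/
def IsProd (D M : Matrix (Fin 3) (Fin 3) F) : Prop :=
  ∃ A B, Sim A D ∧ Sim B D ∧ M = A * B

theorem IsProd.of_sim {D M N : Matrix (Fin 3) (Fin 3) F} (h : IsProd D N) (hs : Sim M N) :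
    IsProd D M := by
  obtain ⟨A, B, hA, hB, rfl⟩ := h
  obtain ⟨P, hP, e⟩ := hs
  have hu : IsUnit P.det := Ne.isUnit hP
  have hPi := (Matrix.isUnit_nonsing_inv_det P hu).ne_zero
  have conj : ∀ X, Sim (P * X * P⁻¹) X := fun X =>
    ⟨P, hP, by rw [Matrix.mul_assoc (P * X), Matrix.nonsing_inv_mul P hu, Matrix.mul_one]⟩
  refine ⟨P * A * P⁻¹, P * B * P⁻¹, (conj A).trans hA, (conj B).trans hB, ?_⟩
  calc M = M * P * P⁻¹ := by rw [Matrix.mul_assoc, Matrix.mul_nonsing_inv P hu, Matrix.mul_one]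
    _ = P * (A * B) * P⁻¹ := by rw [e]
    _ = P * A * (1 : Matrix (Fin 3) (Fin 3) F) * B * P⁻¹ := by rw [Matrix.mul_one]; simp only [Matrix.mul_assoc]
    _ = P * A * P⁻¹ * (P * B * P⁻¹) := by
        rw [← Matrix.nonsing_inv_mul P hu]; simp only [Matrix.mul_assoc]

/-- a matrix with three distinct eigenvalues is similar to the diagonal one -/
theorem sim_diagonal {B : Matrix (Fin 3) (Fin 3) F} {d : Fin 3 → F} (hd : Function.Injective d)
    (h : ∀ j, (B - d j • (1 : Matrix (Fin 3) (Fin 3) F)).det = 0) : Sim B (Matrix.diagonal d) := by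
  choose v hv hBv using fun j => Matrix.exists_mulVec_eq_zero_iff.2 (h j)
  have hBv' : ∀ j, B *ᵥ v j = d j • v j := by
    intro j
    have := hBv j
    rwa [Matrix.sub_mulVec, sub_eq_zero, Matrix.smul_mulVec, Matrix.one_mulVec] at this
  refine ⟨(Matrix.of v)ᵀ, ?_, ?_⟩
  · have hli : LinearIndependent F v :=
      Module.End.eigenvectors_linearIndependent' (Matrix.toLin' B) d hd v fun j =>
        ⟨Module.End.mem_eigenspace_iff.2 (by rw [Matrix.toLin'_apply, hBv']), hv j⟩
    rw [Matrix.det_transpose]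
    have : IsUnit (Matrix.of v) := by
      rw [← Matrix.linearIndependent_rows_iff_isUnit]
      exact hli
    exact ((Matrix.isUnit_iff_isUnit_det _).1 this).ne_zero
  · ext i j
    rw [Matrix.mul_diagonal]
    have := congrFun (hBv' j) i
    simp [Matrix.mul_apply, Matrix.mulVec, dotProduct] at this ⊢
    linear_combination this

section Split

variable (d0 d1 d2 : F)

theorem isProd_comp3 (hd : Function.Injective ![d0, d1, d2]) (hprod : d0 * d1 * d2 = 1) (a b : F) :
    IsProd (Matrix.diagonal ![d0, d1, d2]) (comp3 a b) := by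
  have h0 : d0 ≠ 0 := fun h => by simp [h] at hprod
  have h1 : d1 ≠ 0 := fun h => by simp [h] at hprod
  set s := a - (d0 ^ 2 + d1 ^ 2 + d2 ^ 2) with hs
  set t := (d0 ^ 2 * d1 ^ 2 + d0 ^ 2 * d2 ^ 2 + d1 ^ 2 * d2 ^ 2 + s * d2 ^ 2 + b) / d1 with ht
  set L : Matrix (Fin 3) (Fin 3) F := !![d0, 0, 0; 1, d1, 0; 0, 1, d2] with hL
  set U : Matrix (Fin 3) (Fin 3) F := !![d0, s, t; 0, d1, 0; 0, 0, d2] with hU
  have hLs : Sim L (Matrix.diagonal ![d0, d1, d2]) := by
    refine sim_diagonal hd fun j => ?_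
    fin_cases j <;> simp [hL, Matrix.det_fin_three]
  have hUs : Sim U (Matrix.diagonal ![d0, d1, d2]) := by
    refine sim_diagonal hd fun j => ?_
    fin_cases j <;> simp [hU, Matrix.det_fin_three]
  refine IsProd.of_sim ⟨L, U, hLs, hUs, rfl⟩ (Sim.symm ?_)
  have hdet : (L * U).det = 1 := by
    rw [Matrix.det_mul]
    simp [hL, hU, Matrix.det_fin_three]
    linear_combination (d0 * d1 * d2 + 1) * hprod
  have hcyc : (Matrix.of fun i j => (![![1, 0, 0], (L * U) *ᵥ ![1, 0, 0],
      (L * U) *ᵥ ((L * U) *ᵥ ![1, 0, 0])] j) i).det ≠ 0 := by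
    have : (Matrix.of fun i j => (![![1, 0, 0], (L * U) *ᵥ ![1, 0, 0],
        (L * U) *ᵥ ((L * U) *ᵥ ![1, 0, 0])] j) i).det = d0 * (d1 * d0) := by
      simp [hL, hU, Matrix.det_fin_three, Matrix.mulVec, dotProduct, Fin.sum_univ_three,
        Matrix.mul_apply]
      try ring
    rw [this]
    exact mul_ne_zero h0 (mul_ne_zero h1 h0)
  obtain ⟨a', b', hsim⟩ := sim_comp3_of_cyclic hdet ![1, 0, 0] hcyc
  obtain ⟨P, hP, e⟩ := hsim
  have hu : IsUnit P.det := Ne.isUnit hP
  have htr : (L * U).trace = (comp3 a' b').trace := by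
    calc (L * U).trace = ((L * U) * (P * P⁻¹)).trace := by rw [Matrix.mul_nonsing_inv P hu, Matrix.mul_one]
      _ = (P * comp3 a' b' * P⁻¹).trace := by rw [← Matrix.mul_assoc, e]
      _ = _ := by
        rw [Matrix.trace_mul_comm, ← Matrix.mul_assoc, Matrix.nonsing_inv_mul P hu, Matrix.one_mul]
  have ha : a' = a := by
    simp [hL, hU, comp3, Matrix.trace, Matrix.diag, Fin.sum_univ_three, Matrix.mul_apply] at htr
    linear_combination -htr + hs
  have hd2 : ((1 : F) • (1 : Matrix (Fin 3) (Fin 3) F) - L * U).det =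
      ((1 : F) • (1 : Matrix (Fin 3) (Fin 3) F) - comp3 a' b').det := by
    have hm : ((1 : F) • (1 : Matrix (Fin 3) (Fin 3) F) - L * U) * P =
        P * ((1 : F) • (1 : Matrix (Fin 3) (Fin 3) F) - comp3 a' b') := by
      rw [Matrix.sub_mul, Matrix.mul_sub, e]
      simp
    have := congrArg Matrix.det hm
    rw [Matrix.det_mul, Matrix.det_mul, mul_comm P.det] at this
    exact mul_right_cancel₀ hP this
  have hb : b' = b := by
    have ht' : t * d1 = d0 ^ 2 * d1 ^ 2 + d0 ^ 2 * d2 ^ 2 + d1 ^ 2 * d2 ^ 2 + s * d2 ^ 2 + b := by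
      rw [ht]; exact div_mul_cancel₀ _ h1
    subst ha
    have hb0 : (d0 ^ 2 * d1 ^ 2 * d2 ^ 2) = 1 := by linear_combination (d0 * d1 * d2 + 1) * hprod
    simp [hL, hU, comp3, Matrix.det_fin_three, Matrix.mul_apply, Fin.sum_univ_three] at hd2
    linear_combination hd2 + ht' + hb0 + hs
  subst ha hb
  exact ⟨P, hP, e⟩

theorem isProd_quad3 (hd : Function.Injective ![d0, d1, d2]) (hprod : d0 * d1 * d2 = 1) {c : F}
    (hc : c ≠ 0) : IsProd (Matrix.diagonal ![d0, d1, d2]) (quad3 c) := by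
  have h0 : d0 ≠ 0 := fun h => by simp [h] at hprod
  have h1 : d1 ≠ 0 := fun h => by simp [h] at hprod
  have h2 : d2 ≠ 0 := fun h => by simp [h] at hprod
  set D := Matrix.diagonal ![d0, d1, d2] with hD
  have hDs : Sim D D := ⟨1, by simp, by simp⟩
  have hDdet : D.det = 1 := by simp [hD, Matrix.det_diagonal, Fin.prod_univ_three, hprod]
  have core : ∀ M : Matrix (Fin 3) (Fin 3) F, Sim M D → (∃ τ : F,
      (D * M - c • 1) * (D * M - c • 1) = τ • (D * M - c • 1) ∧ c * (c + τ) = c⁻¹) →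
      (∀ e : F, D * M ≠ e • (1 : Matrix (Fin 3) (Fin 3) F)) → IsProd D (quad3 c) := by
    rintro M hM ⟨τ, hτ, hct⟩ hns
    refine IsProd.of_sim ⟨D, M, hDs, hM, rfl⟩ (Sim.symm ?_)
    have hdet : (D * M).det = 1 := by rw [Matrix.det_mul, hM.det_eq, hDdet, one_mul]
    have hq : D * M * (D * M) = (2 * c + τ) • (D * M) - (c * (c + τ)) • 1 := by
      simp only [Matrix.sub_mul, Matrix.mul_sub, Matrix.smul_mul, Matrix.mul_smul, Matrix.one_mul,
        Matrix.mul_one, smul_sub, smul_smul] at hτ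
      rw [sub_eq_iff_eq_add, sub_eq_iff_eq_add] at hτ
      rw [hτ, add_smul, two_mul, add_smul, mul_add c, add_smul, mul_comm c τ]
      abel
    rcases canonical hdet hns with ⟨a, b, h⟩ | ⟨c', -, h⟩
    · exact absurd (h.quadratic hq) (comp3_not_quadratic _ _ _ _)
    · have := quad3_quadratic_eq (h.quadratic hq)
      rw [hct, _root_.inv_inj] at this
      rwa [← this] at h
  set m0 := c / d0 with hm0
  set m1 := c / d1 with hm1
  set m2 := c / d2 with hm2
  have hne : ∀ {x y : F}, x ≠ 0 → y ≠ 0 → x ≠ y → c / y - c / x ≠ 0 := by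
    intro x y hx hy hxy h
    rw [sub_eq_zero, div_eq_div_iff hy hx] at h
    exact hxy (mul_left_cancel₀ hc h)
  have n01 : d0 ≠ d1 := fun h => absurd (hd (show ![d0, d1, d2] 0 = ![d0, d1, d2] 1 by simpa using h)) (by decide)
  have n02 : d0 ≠ d2 := fun h => absurd (hd (show ![d0, d1, d2] 0 = ![d0, d1, d2] 2 by simpa using h)) (by decide)
  have n12 : d1 ≠ d2 := fun h => absurd (hd (show ![d0, d1, d2] 1 = ![d0, d1, d2] 2 by simpa using h)) (by decide)
  have e10 := hne h0 h1 n01
  have e20 := hne h0 h2 n02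
  have e21 := hne h1 h2 n12
  have e01 := hne h1 h0 n01.symm
  have e02 := hne h2 h0 n02.symm
  have e12 := hne h2 h1 n12.symm
  rw [← hm0, ← hm1] at e10 e01
  rw [← hm0, ← hm2] at e20 e02
  rw [← hm1, ← hm2] at e21 e12
  set w0 := (d0 - m0) * (d1 - m0) * (d2 - m0) / ((m1 - m0) * (m2 - m0)) with hw0
  set w1 := (d0 - m1) * (d1 - m1) * (d2 - m1) / ((m0 - m1) * (m2 - m1)) with hw1
  set w2 := (d0 - m2) * (d1 - m2) * (d2 - m2) / ((m0 - m2) * (m1 - m2)) with hw2
  have interp : ∀ x : F, (m0 - x) * (m1 - x) * (m2 - x) + w0 * ((m1 - x) * (m2 - x)) +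
      w1 * ((m0 - x) * (m2 - x)) + w2 * ((m0 - x) * (m1 - x)) = (d0 - x) * (d1 - x) * (d2 - x) := by
    intro x
    rw [hw0, hw1, hw2]
    field_simp
    ring
  by_cases hw : w0 = 0 ∧ w1 = 0 ∧ w2 = 0
  · obtain ⟨z0, z1, z2⟩ := hw
    set M : Matrix (Fin 3) (Fin 3) F := !![m0, 0, 1; 0, m1, 0; 0, 0, m2] with hM
    refine core M (sim_diagonal hd fun j => ?_) ⟨0, ?_, ?_⟩ ?_
    · have hi := interp (![d0, d1, d2] j)
      rw [z0, z1, z2] at hi
      fin_cases j <;> simp [hM, Matrix.det_fin_three] at hi ⊢ <;>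
        first | exact hi | linear_combination hi
    · ext i j
      fin_cases i <;> fin_cases j <;>
        simp [hD, hM, hm0, hm1, hm2, Matrix.mul_apply, Fin.sum_univ_three] <;> field_simp <;> ring
    · have hi := interp 0
      rw [z0, z1, z2, hm0, hm1, hm2] at hi
      field_simp at hi ⊢
      linear_combination hi + (d0 * d1 * d2 + 1) * hprod
    · intro e he
      have := congrFun (congrFun he 0) 2
      simp [hD, hM, Matrix.mul_apply, Fin.sum_univ_three] at this
      exact h0 this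
  · set M : Matrix (Fin 3) (Fin 3) F :=
      !![m0 + w0, w1, w2; w0, m1 + w1, w2; w0, w1, m2 + w2] with hM
    refine core M (sim_diagonal hd fun j => ?_) ⟨w0 * d0 + w1 * d1 + w2 * d2, ?_, ?_⟩ ?_
    · have hi := interp (![d0, d1, d2] j)
      fin_cases j <;> simp [hM, Matrix.det_fin_three] at hi ⊢ <;> linear_combination hi
    · ext i j
      fin_cases i <;> fin_cases j <;>
        simp [hD, hM, hm0, hm1, hm2, Matrix.mul_apply, Fin.sum_univ_three] <;> field_simp <;> ring
    · have hi := interp 0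
      rw [hm0, hm1, hm2] at hi
      field_simp at hi ⊢
      linear_combination hi + (d0 * d1 * d2 + 1) * hprod
    · intro e he
      apply hw
      have a01 := congrFun (congrFun he 0) 1
      have a02 := congrFun (congrFun he 0) 2
      have a10 := congrFun (congrFun he 1) 0
      simp [hD, hM, Matrix.mul_apply, Fin.sum_univ_three, h0, h1] at a01 a02 a10
      exact ⟨a10, a01, a02⟩

end Split

end Cfsg.Agent.Lib.SL3Products
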